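import Groth.Agent.Lib.FiniteSub21.Line
import Groth.Agent.Lib.RankComm14.Torus
import Groth.Agent.Lib.GrpDeligne.Factor
import Groth.Agent.Lib.IsogGaGm24.Main

/-!
# No homomorphisms from an iterated extension of additive groups to a torus
-/

set_option autoImplicit false
set_option linter.all false
set_option backward.isDefEq.respectTransparency false

universe u

open CategoryTheory CategoryTheory.Limits MonoidalCategory CartesianMonoidalCategory MonObj AlgebraicGeometry
open GrothLib.RedPts Polynomial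

namespace GrothLib.HomTorus24

variable {k : Type u} [Field k]

local notation "S₀" => Spec (CommRingCat.of k)

/-- A homomorphism from the additive group to a torus over a field is trivial. -/
theorem hom_Ga_eq_one {T : Over S₀} [GrpObj T] (hT : Red.IsTorus T) (g : Red.Ga S₀ ⟶ T) [IsMonHom g] : g = 1 := by
  let G := Red.Ga S₀
  let io := Scheme.ΓSpecIso (CommRingCat.of k[X])
  let ψ : k[X] →+* Γ(G.left, ⊤) := eval₂RingHom (scal G) (Red.gaFn (𝟙 G))
  obtain ⟨u, hu⟩ := exists_over_hom (C : k →+* k[X]) G ψ (by ext c; simp [ψ])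
  let v : specOver (C : k →+* k[X]) ⟶ G := gaPt (io.inv X)
  have huv : u ≫ v = 𝟙 G := gaFn_injective (by
    rw [gaFn_comp, gaFn_gaPt]
    exact (hu X).trans (eval₂_X _ _))
  let k₁ : RankComm14.ob (𝟙 S₀) k[X] ⟶ specOver (C : k →+* k[X]) := Over.homMk (𝟙 _) (by
    change 𝟙 _ ≫ Spec.map (CommRingCat.ofHom (C : k →+* k[X])) = Spec.map _ ≫ 𝟙 _
    rw [Category.id_comp, Category.comp_id]; rfl)
  let k₂ : specOver (C : k →+* k[X]) ⟶ RankComm14.ob (𝟙 S₀) k[X] := Over.homMk (𝟙 _) (by
    change 𝟙 _ ≫ Spec.map _ ≫ 𝟙 _ = Spec.map (CommRingCat.ofHom (C : k →+* k[X]))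
    rw [Category.id_comp, Category.comp_id]; rfl)
  have hk : k₂ ≫ k₁ = 𝟙 _ := Over.OverMorphism.ext (Category.id_comp _)
  have h1 : k₁ ≫ v ≫ g = 1 := by
    refine RankComm14.const_of_polynomial hT (𝟙 S₀) _ ?_
    have h0 : RankComm14.obMap (𝟙 S₀) (Polynomial.aeval (0 : k) : k[X] →ₐ[k] k) ≫ k₁ ≫ v = 1 := by
      refine gaFn_injective ?_
      rw [gaFn_one, gaFn_comp, gaFn_comp, gaFn_gaPt]
      show (Spec.map (CommRingCat.ofHom (Polynomial.aeval (0 : k) : k[X] →ₐ[k] k).toRingHom)).appTop
        ((Scheme.Hom.appTop (𝟙 (Spec (CommRingCat.of k[X])))) (io.inv X)) = 0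
      rw [Scheme.Hom.id_appTop, CommRingCat.id_apply, RankCell14.specMap_appTop]
      show (Scheme.ΓSpecIso (CommRingCat.of k)).inv (Polynomial.aeval (0 : k) X) = 0
      rw [aeval_X, map_zero]
    rw [← Category.assoc k₁, ← Category.assoc, h0, MonObj.one_comp]
  have h2 : v ≫ g = 1 := by
    rw [← Category.id_comp (v ≫ g), ← hk, Category.assoc, h1, MonObj.comp_one]
  rw [← Category.id_comp g, ← huv, Category.assoc, h2, MonObj.comp_one]

theorem hom_eq_one (T U : Over S₀) [GrpObj T] [GrpObj U] (hT : Red.IsTorus T)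
    (n : ℕ) (Us : Fin (n + 1) → Over S₀) [∀ i, GrpObj (Us i)]
    (h0 : Red.IsTrivialGrp (Us 0))
    (e : Us (Fin.last n) ≅ U) [IsMonHom e.hom]
    (incl : ∀ i : Fin n, Us i.castSucc ⟶ Us i.succ) [∀ i, IsMonHom (incl i)]
    (quot : ∀ i : Fin n, Us i.succ ⟶ Red.Ga S₀) [∀ i, IsMonHom (quot i)]
    [∀ i, Surjective (quot i).left] [∀ i, Flat (quot i).left] [∀ i, IsClosedImmersion (incl i).left]
    (hker : ∀ i : Fin n, AlgGrp.IsKernel (incl i) (quot i))
    [QuasiCompact U.hom] (f : U ⟶ T) [IsMonHom f] : f = 1 := by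
  haveI : IsAffineHom (Red.Ga S₀).hom := IsogGaGm24.isAffineHom_Ga _
  haveI : QuasiCompact U.hom := ‹_›
  have hqc : ∀ j : Fin (n + 1), QuasiCompact (Us j).hom := by
    intro j
    induction j using Fin.reverseInduction with
    | last =>
      haveI : IsIso e.hom.left := inferInstanceAs (IsIso ((Over.forget _).map e.hom))
      rw [← Over.w e.hom]; infer_instance
    | cast i ih => rw [← Over.w (incl i)]; infer_instance
  have main : ∀ j : Fin (n + 1), ∀ (g : Us j ⟶ T) [IsMonHom g], g = 1 := by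
    intro j
    induction j using Fin.induction with
    | zero =>
      intro g _
      haveI : IsIso (Us 0).hom := h0
      have ht : toUnit (Us 0) ≫ η[Us 0] = 𝟙 _ := by
        apply Over.OverMorphism.ext
        rw [← cancel_mono (Us 0).hom, Over.w, Over.w]
      rw [← Category.id_comp g, ← ht, Category.assoc, IsMonHom.one_hom, ← Hom.one_def]
    | succ i ih =>
      intro g _
      haveI : QuasiCompact (quot i).left := by
        haveI := hqc i.succ
        haveI : QuasiCompact ((quot i).left ≫ (Red.Ga S₀).hom) := by rw [Over.w]; infer_instance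
        exact QuasiCompact.of_comp (quot i).left (Red.Ga S₀).hom
      obtain ⟨g', hg', hgg⟩ := GrpDeligne.exists_factor (quot i) (incl i) (hker i) g (ih (incl i ≫ g))
      rw [← hgg, hom_Ga_eq_one hT g', MonObj.comp_one]
  rw [← Category.id_comp f, ← e.inv_hom_id, Category.assoc, main _ (e.hom ≫ f), MonObj.comp_one]

end GrothLib.HomTorus24
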